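import Groth.Agent.Proj16.QuotGraded
import Groth.Agent.ProjX.Chart
import Groth.Agent.ProjX.BaseChange
import Mathlib.RingTheory.Flat.Localization
import Mathlib.AlgebraicGeometry.Morphisms.Flat

/-! `Proj` of a flat graded quotient of a polynomial ring is flat. -/

set_option linter.style.haveILetI false
set_option linter.unusedSectionVars false
set_option backward.isDefEq.respectTransparency false
set_option backward.isDefEq.respectTransparency.types false

noncomputable section

universe u

open CategoryTheory CategoryTheory.Limits AlgebraicGeometry HomogeneousLocalization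

namespace Groth.Agent.PThick

variable {A : Type u} [CommRing A] {N : ℕ}

local notation "P" => MvPolynomial (Fin (N + 1)) A
local notation "𝒜" => CohB1.polyGrading N A

variable (I : Ideal (MvPolynomial (Fin (N + 1)) A))

theorem flat_away {B : Type u} [CommRing B] [Algebra A B] (ℬ : ℕ → Submodule A B) [GradedAlgebra ℬ]
    [Module.Flat A B] {x : B} (hx : x ∈ ℬ 1) : (ProjX.cst (R := A) ℬ (Submonoid.powers x)).Flat := by
  let Aw := HomogeneousLocalization.Away ℬ x
  letI : Algebra A Aw := ProjX.algCst ℬ (Submonoid.powers x)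
  let L := Localization.Away x
  let v : Aw →ₗ[A] L :=
    { toFun := fun z => z.val
      map_add' := fun a b => HomogeneousLocalization.val_add a b
      map_smul' := fun r a => HomogeneousLocalization.val_smul _ r a }
  have hm : ∀ {m : ℕ} {b : B}, b ∈ ℬ m → b ∈ ℬ (m • 1) := fun {m b} h => by simpa using h
  let g : ∀ m : ℕ, ℬ m →ₗ[A] Aw := fun m =>
    { toFun := fun b => HomogeneousLocalization.Away.mk ℬ hx m b (hm b.2)
      map_add' := fun a b => HomogeneousLocalization.val_injective _ (by
        rw [HomogeneousLocalization.val_add (x := Submonoid.powers x) _ _]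
        simp only [HomogeneousLocalization.Away.val_mk, Submodule.coe_add, Localization.add_mk_self])
      map_smul' := fun r b => HomogeneousLocalization.val_injective _ (by
        erw [HomogeneousLocalization.val_smul]
        simp only [HomogeneousLocalization.Away.val_mk, RingHom.id_apply, Submodule.coe_smul]
        exact (Localization.smul_mk _ _ _).symm) }
  have hone : g 0 (GradedMonoid.GOne.one (A := fun m => ℬ m)) = 1 := HomogeneousLocalization.val_injective _ (by
    show (g 0 ⟨1, SetLike.one_mem_graded ℬ⟩).val = _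
    simp only [g, LinearMap.coe_mk, AddHom.coe_mk, HomogeneousLocalization.Away.val_mk, HomogeneousLocalization.val_one]
    exact (congrArg (Localization.mk (1 : B)) (Subtype.ext (pow_zero x))).trans Localization.mk_one)
  have hmul : ∀ {a b : ℕ} (p : ℬ a) (q : ℬ b), g (a + b) (GradedMonoid.GMul.mul (A := fun m => ℬ m) p q) = g a p * g b q :=
    fun {a b} p q => HomogeneousLocalization.val_injective _ (by
      show (g (a + b) ⟨(p : B) * q, SetLike.mul_mem_graded p.2 q.2⟩).val = _
      rw [HomogeneousLocalization.val_mul (x := Submonoid.powers x) _ _]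
      simp only [g, LinearMap.coe_mk, AddHom.coe_mk, HomogeneousLocalization.Away.val_mk, Localization.mk_mul]
      exact congrArg (Localization.mk _) (Subtype.ext (pow_add x a b)))
  let ψ : B →ₐ[A] Aw := (DirectSum.toAlgebra A (fun m => ℬ m) g hone hmul).comp
    (DirectSum.decomposeAlgEquiv ℬ).toAlgHom
  have hψ : ∀ (m : ℕ) (b : B) (h : b ∈ ℬ m), ψ b = HomogeneousLocalization.Away.mk ℬ hx m b (hm h) := by
    intro m b h
    show DirectSum.toAlgebra A (fun m => ℬ m) g hone hmul (DirectSum.decompose ℬ b) = _
    rw [DirectSum.decompose_of_mem ℬ h]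
    exact DirectSum.toSemiring_of (fun i => (g i).toAddMonoidHom) hone hmul m _
  have hx1 : ψ x = 1 := by
    rw [hψ 1 x hx]
    apply HomogeneousLocalization.val_injective
    rw [HomogeneousLocalization.Away.val_mk, HomogeneousLocalization.val_one]
    exact (congrArg (Localization.mk x) (Subtype.ext (pow_one x))).trans (Localization.mk_self (⟨x, 1, pow_one x⟩ : Submonoid.powers x))
  let ρ : L →ₐ[A] Aw := IsLocalization.liftAlgHom (M := Submonoid.powers x) (f := ψ) (fun ⟨_, k, hk⟩ => by
    simp only [← hk, map_pow, hx1, one_pow]; exact isUnit_one)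
  haveI : Module.Flat B L := IsLocalization.flat L (Submonoid.powers x)
  haveI : Module.Flat A L := Module.Flat.trans A B L
  have key : Module.Flat A Aw := Module.Flat.of_retract v ρ.toLinearMap (by
    refine LinearMap.ext fun z => ?_
    obtain ⟨m, b, hb, rfl⟩ := z.mk_surjective ℬ hx
    show ρ (HomogeneousLocalization.Away.mk ℬ hx m b hb).val = _
    rw [HomogeneousLocalization.Away.val_mk]
    have h1 : ρ (Localization.mk b ⟨x ^ m, m, rfl⟩) * ρ (algebraMap B L (x ^ m)) = ψ b := by
      have : ρ (algebraMap B L b) = ψ b := IsLocalization.lift_eq _ _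
      rw [← map_mul, ← this, ← Localization.mk_one_eq_algebraMap, ← Localization.mk_one_eq_algebraMap, Localization.mk_mul]
      congr 1
      rw [Localization.mk_eq_mk_iff, Localization.r_iff_exists]
      exact ⟨1, by simp [mul_comm]⟩
    have h2 : ρ (algebraMap B L (x ^ m)) = 1 := by
      have : ρ (algebraMap B L (x ^ m)) = ψ (x ^ m) := IsLocalization.lift_eq _ _
      rw [this, map_pow, hx1, one_pow]
    rw [h2, mul_one] at h1
    exact h1.trans (hψ m b (by simpa using hb)))
  exact (RingHom.flat_algebraMap_iff (R := A) (S := Aw)).2 key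

/-- `Proj` of a flat graded quotient of a polynomial ring, over the base. -/
theorem flat_proj (hI : I.IsHomogeneous 𝒜) [Module.Flat A (P ⧸ I)] :
    letI := Proj16.quotGradedAlgebra 𝒜 I hI
    Flat (Proj.toSpecZero (Proj16.quotGrading 𝒜 I) ≫
      Spec.map (CommRingCat.ofHom (algebraMap A (Proj16.quotGrading 𝒜 I 0)))) := by
  letI := Proj16.quotGradedAlgebra 𝒜 I hI
  let ℬ := Proj16.quotGrading 𝒜 I
  let f : ULift.{u} (Fin (N + 1)) → P ⧸ I := fun j => Ideal.Quotient.mk I (MvPolynomial.X j.down)
  have hfd : ∀ j, f j ∈ ℬ 1 := fun j => Proj16.mk_mem_quotGrading 𝒜 I (ProjX.X_mem N j.down)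
  have hirr : (HomogeneousIdeal.irrelevant ℬ).toIdeal ≤ Ideal.span (Set.range f) :=
    (HomogeneousIdeal.toIdeal_irrelevant_le _).2 fun i hi b hb => by
      obtain ⟨a, ha, rfl⟩ := hb
      have h1 := Ideal.mem_map_of_mem (Ideal.Quotient.mk I) (ProjX.mem_span_X N hi ha)
      rw [Ideal.map_span, ← Set.range_comp] at h1
      refine Ideal.span_mono ?_ h1
      rintro _ ⟨j, rfl⟩
      exact ⟨⟨j⟩, rfl⟩
  refine IsZariskiLocalAtSource.of_openCover
    (Proj.affineOpenCoverOfIrrelevantLESpan ℬ f hfd (fun _ => one_pos) hirr).openCover fun j => ?_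
  show Flat (Proj.awayι ℬ (f j) (hfd j) one_pos ≫ Proj.toSpecZero ℬ ≫ Spec.map _)
  rw [Proj.awayι_toSpecZero_assoc, ← Spec.map_comp, ← CommRingCat.ofHom_comp]
  exact (@HasRingHomProperty.Spec_iff @Flat _ _ _ _ _).2 (flat_away (A := A) ℬ (hfd j))

end Groth.Agent.PThick
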