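import Groth.Agent.PThick.Flat
import Groth.Agent.ProjAvoid.Basic
import Groth.Agent.H1GrCI.Reg
import Groth.Agent.ProjX.Chart
import Groth.Agent.S10829

/-! Forms containing a given graded ideal with small common zero set on the closed fibre. -/

set_option linter.style.haveILetI false
set_option backward.isDefEq.respectTransparency false
set_option backward.isDefEq.respectTransparency.types false

noncomputable section

universe u

open CategoryTheory CategoryTheory.Limits AlgebraicGeometry TopologicalSpace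

namespace Groth.Agent.PThick

variable {k : Type u} [Field k] {N : ℕ}

local notation "Pk" => CohB1.ProjSpace N k
local notation "𝒜k" => CohB1.polyGrading N k

/-- The common zeros of a set of polynomials in projective space. -/
def zset (S : Set (MvPolynomial (Fin (N + 1)) k)) : Set Pk :=
  {y | S ⊆ (ProjectiveSpectrum.asHomogeneousIdeal (𝒜 := 𝒜k) y).toIdeal}

theorem isClosed_zset (S : Set (MvPolynomial (Fin (N + 1)) k)) : IsClosed (zset S) :=
  ProjectiveSpectrum.isClosed_zeroLocus 𝒜k S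

theorem mem_zset_iff {S : Set (MvPolynomial (Fin (N + 1)) k)} {y : Pk} :
    y ∈ zset S ↔ ∀ f ∈ S, y ∉ Proj.basicOpen 𝒜k f := by
  exact forall₂_congr fun f _ => (not_not (a := f ∈ (ProjectiveSpectrum.asHomogeneousIdeal (𝒜 := 𝒜k) y))).symm

theorem dim_univ_le : topologicalKrullDim ↥(Set.univ : Set Pk) ≤ (N : WithBot ℕ∞) :=
  ((Homeomorph.Set.univ Pk).isInducing.topologicalKrullDim_le).trans (S10829.result k N).le

theorem closure_gen (T : IrreducibleCloseds Pk) : ∃ w : Pk, ProjAvoid.cl w = T := by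
  obtain ⟨w, hw⟩ := QuasiSober.sober T.isIrreducible T.isClosed
  exact ⟨w, IrreducibleCloseds.ext hw⟩

/-- Forms from a supply cutting out a set of dimension at most `n`. -/
theorem exists_dim_le {Y : Set Pk} (hY : IsClosed Y) {n c : ℕ} (hN : c + n = N)
    (hdim : topologicalKrullDim ↥Y ≤ (n : WithBot ℕ∞)) (Q : MvPolynomial (Fin (N + 1)) k → Prop)
    (avoid : ∀ G : Finset Pk, (∀ g ∈ G, g ∉ Y) → ∃ z, Q z ∧ ∀ g ∈ G, g ∈ Proj.basicOpen 𝒜k z) :
    ∃ h : Fin c → MvPolynomial (Fin (N + 1)) k, (∀ l, Q (h l)) ∧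
      topologicalKrullDim ↥(zset (Set.range h)) ≤ (n : WithBot ℕ∞) := by
  classical
  obtain ⟨h, hQ, hch⟩ := ProjAvoid.exists_chain isClosed_univ hY Q avoid c
  refine ⟨h, hQ, ?_⟩
  set V := zset (Set.range h) with hV
  have hemb : Topology.IsClosedEmbedding ((↑) : V → Pk) := (isClosed_zset _).isClosedEmbedding_subtypeVal
  refine iSup_le fun p => ?_
  let p' : LTSeries (IrreducibleCloseds Pk) :=
    p.map _ (IrreducibleCloseds.map_strictMono_of_isInducing hemb.isInducing)
  obtain ⟨w, hw⟩ := closure_gen p'.last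
  have hlastV : (p'.last : Set Pk) ⊆ V := by
    refine closure_minimal ?_ (isClosed_zset _)
    rintro _ ⟨z, -, rfl⟩
    exact z.2
  have hwV : w ∈ V := hlastV (hw ▸ subset_closure rfl)
  suffices h2 : p'.length ≤ n by
    show ((p.length : ℕ) : WithBot ℕ∞) ≤ _
    exact Nat.cast_le.2 h2
  by_cases hwY : w ∈ Y
  · have hle : (p'.last : Set Pk) ⊆ Y := hw ▸ hY.closure_subset_iff.2 (Set.singleton_subset_iff.2 hwY)
    exact Nat.cast_le.1 ((H23.TopDim.length_le_dim_subset p' hle).trans hdim)
  · obtain ⟨q, hq, hq0, -⟩ := hch w trivial hwY fun l => mem_zset_iff.1 hwV _ ⟨l, rfl⟩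
    have := (H23.TopDim.length_le_dim_subset (RelSeries.smash p' q (hw.symm.trans hq0.symm)) (Set.subset_univ _)).trans
      dim_univ_le
    rw [RelSeries.smash_length, hq] at this
    have := Nat.cast_le.1 this
    omega

theorem X_mem_radical (S : Set (MvPolynomial (Fin (N + 1)) k)) (hS : ∀ f ∈ S, SetLike.IsHomogeneousElem 𝒜k f)
    (hz : zset S = ∅) (i : Fin (N + 1)) : (MvPolynomial.X i) ∈ (Ideal.span S).radical := by
  rw [Ideal.radical_eq_sInf]
  refine Submodule.mem_sInf.2 fun J ⟨hJ, hJp⟩ => ?_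
  haveI := hJp
  by_contra hX
  let K := Ideal.homogeneousCore 𝒜k J
  have hKJ : K.toIdeal ≤ J := Ideal.toIdeal_homogeneousCore_le 𝒜k J
  have hirr : ¬ HomogeneousIdeal.irrelevant 𝒜k ≤ K := fun hle =>
    hX (hKJ (hle (HomogeneousIdeal.mem_irrelevant_of_mem _ one_pos (ProjX.X_mem N i))))
  let y : Pk := ⟨K, Ideal.IsPrime.homogeneousCore hJp, hirr⟩
  have : y ∈ zset S := fun f hf => Ideal.mem_homogeneousCore_of_homogeneous_of_mem (hS f hf) (hJ (Ideal.subset_span hf))
  rw [hz] at this
  exact this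

section Lift

variable {A : Type u} [CommRing A] [IsNoetherianRing A] [IsLocalRing A]

local notation "P" => MvPolynomial (Fin (N + 1)) A
local notation "π" => MvPolynomial.map (σ := Fin (N + 1)) (IsLocalRing.residue A)

/-- Forms in a graded ideal, with flat quotient and small zero set on the closed fibre. -/
theorem exists_forms (K : Ideal P) (hK : K.IsHomogeneous (CohB1.polyGrading N A)) {n c : ℕ} (hN : c + n = N)
    (hdim : topologicalKrullDim ↥(zset (N := N) (π '' (K : Set P))) ≤ (n : WithBot ℕ∞)) :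
    ∃ g : Fin c → P, (∀ l, g l ∈ K ∧ ∃ d, g l ∈ CohB1.polyGrading N A d) ∧
      Module.Flat A (P ⧸ Ideal.ofList (List.ofFn g)) ∧
      topologicalKrullDim ↥(zset (N := N) (Set.range fun l => π (g l))) ≤ (n : WithBot ℕ∞) := by
  classical
  let 𝒜A := CohB1.polyGrading N A
  let Kk : Ideal (MvPolynomial (Fin (N + 1)) (IsLocalRing.ResidueField A)) := K.map π
  have hsurj : Function.Surjective π := MvPolynomial.map_surjective _ IsLocalRing.residue_surjective
  have hKk : Kk.IsHomogeneous (CohB1.polyGrading N (IsLocalRing.ResidueField A)) := by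
    obtain ⟨s, rfl⟩ := (Ideal.IsHomogeneous.iff_exists _ K).1 hK
    show (Ideal.map π (Ideal.span _)).IsHomogeneous _
    rw [Ideal.map_span]
    refine Ideal.homogeneous_span _ _ ?_
    rintro _ ⟨_, ⟨⟨f, d, hf⟩, -, rfl⟩, rfl⟩
    exact ⟨d, (ProjX.polyHom N (IsLocalRing.residue A)).map_mem hf⟩
  let Y := zset (N := N) (π '' (K : Set P))
  have avoid : ∀ G : Finset (CohB1.ProjSpace N (IsLocalRing.ResidueField A)), (∀ g ∈ G, g ∉ Y) →
      ∃ z, ((∃ d, 0 < d ∧ z ∈ CohB1.polyGrading N (IsLocalRing.ResidueField A) d) ∧ z ∈ Kk) ∧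
        ∀ g ∈ G, g ∈ Proj.basicOpen (CohB1.polyGrading N (IsLocalRing.ResidueField A)) z := fun G hG => by
    obtain ⟨z, d, hd0, hzd, hzJ, hz⟩ := S15708.result _ Kk hKk
      (G.image fun g : CohB1.ProjSpace N (IsLocalRing.ResidueField A) =>
        (ProjectiveSpectrum.asHomogeneousIdeal (𝒜 := CohB1.polyGrading N (IsLocalRing.ResidueField A)) g).toIdeal) fun p hp => by
        obtain ⟨g, hg, rfl⟩ := Finset.mem_image.1 hp
        refine ⟨g.isPrime, g.not_irrelevant_le, fun hle => hG g hg ?_⟩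
        rintro _ ⟨f, hf, rfl⟩
        exact hle (Ideal.mem_map_of_mem _ hf)
    refine ⟨z, ⟨⟨d, hd0, hzd⟩, hzJ⟩, fun g hg => ?_⟩
    rw [Proj.mem_basicOpen]
    exact hz _ (Finset.mem_image.2 ⟨g, hg, rfl⟩)
  obtain ⟨h, hQ, hdimh⟩ := exists_dim_le (isClosed_zset _) hN hdim _ avoid
  obtain ⟨s, hs, -, hscov⟩ := ProjAvoid.exists_hypersurfaces (Y := ∅) (isClosed_zset (Set.range h)) isClosed_empty hdimh
  -- lift the forms
  have hlift : ∀ l, ∃ g ∈ K, (∃ d, g ∈ 𝒜A d) ∧ π g = h l := fun l => by
    obtain ⟨⟨d, -, hd⟩, hl⟩ := hQ l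
    obtain ⟨a, ha, hae⟩ := (Ideal.mem_map_iff_of_surjective _ hsurj).1 hl
    refine ⟨_, hK d ha, ⟨d, (DirectSum.decompose 𝒜A a d).2⟩, ?_⟩
    have := Proj16.proj_map_commutes (ProjX.polyHom N (IsLocalRing.residue A)) d a
    rw [GradedRing.proj_apply] at this
    refine this.trans ?_
    rw [GradedRing.proj_apply]
    show ((DirectSum.decompose (CohB1.polyGrading N (IsLocalRing.ResidueField A)) (π a) d : CohB1.polyGrading N (IsLocalRing.ResidueField A) d) : MvPolynomial (Fin (N + 1)) (IsLocalRing.ResidueField A)) = h l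
    rw [hae, DirectSum.decompose_of_mem_same _ hd]
  choose g hgK hgd hgπ using hlift
  have hgh : (fun l => π (g l)) = h := funext hgπ
  refine ⟨g, fun l => ⟨hgK l, hgd l⟩, ?_, by rw [hgh]; exact hdimh⟩
  -- regularity on the closed fibre
  subst hN
  let all : Fin (c + n + 1) → MvPolynomial (Fin (c + n + 1)) (IsLocalRing.ResidueField A) :=
    Fin.append (n := n + 1) h s
  have hall : ∀ i, ∃ d, 0 < d ∧ all i ∈ CohB1.polyGrading (c + n) (IsLocalRing.ResidueField A) d := fun i => by
    refine Fin.addCases (m := c) (n := n + 1) (motive := fun i => ∃ d, 0 < d ∧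
      Fin.append (n := n + 1) h s i ∈ CohB1.polyGrading (c + n) (IsLocalRing.ResidueField A) d) (fun l => ?_) (fun l => ?_) i
    · rw [Fin.append_left]; exact (hQ l).1
    · rw [Fin.append_right]; exact hs l
  choose ε hε hεd using hall
  have hz : zset (N := c + n) (Set.range all) = ∅ := Set.eq_empty_iff_forall_notMem.2 fun y hy => by
    have hy' : y ∈ zset (N := c + n) (Set.range h) := by
      rintro _ ⟨l, rfl⟩
      exact hy ⟨Fin.castAdd (n + 1) l, Fin.append_left h s l⟩
    obtain ⟨j, hj⟩ := hscov y hy' (Set.notMem_empty y)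
    exact mem_zset_iff.1 hy _ ⟨Fin.natAdd c j, Fin.append_right h s j⟩ hj
  have hreg := H1GrCI.regular_of_radical all (fun _ => 1) (fun _ => one_pos) ε hε
    (fun i => (MvPolynomial.mem_homogeneousSubmodule _ _).1 (hεd i))
    (X_mem_radical _ (by rintro _ ⟨i, rfl⟩; exact ⟨ε i, hεd i⟩) hz)
  have hofn : List.ofFn all = List.ofFn h ++ List.ofFn s := List.ofFn_fin_append h s
  rw [hofn] at hreg
  have hmap : (List.ofFn g).map (MvPolynomial.map (IsLocalRing.residue A)) = List.ofFn h := by
    rw [List.map_ofFn]; exact congrArg _ hgh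
  refine flat_quotient (List.ofFn g) (fun f hf => ?_) fun i hi a ha => ?_
  · obtain ⟨l, rfl⟩ := List.mem_ofFn.1 hf
    exact hgd l
  have hi' : i < ((List.ofFn h) ++ List.ofFn s).length := by
    rw [List.length_append, ← hmap, List.length_map]; omega
  have hih : i < (List.ofFn h).length := by rw [← hmap, List.length_map]; exact hi
  have htake : (Ideal.ofList ((List.ofFn g).take i)).map (MvPolynomial.map (IsLocalRing.residue A)) = Ideal.ofList ((List.ofFn h ++ List.ofFn s).take i) := by
    rw [List.take_append_of_le_length hih.le, ← hmap, ← List.map_take, Ideal.map_ofList]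
  have hget : MvPolynomial.map (IsLocalRing.residue A) (List.ofFn g)[i] = (List.ofFn h ++ List.ofFn s)[i] := by
    rw [List.getElem_append_left hih]
    simp [hgπ]
  rw [htake] at ha ⊢
  rw [hget] at ha
  exact mem_of_isWeaklyRegular _ hreg i hi' _ ha

end Lift

end Groth.Agent.PThick
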