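import Groth.Agent.Proj16.QuotGraded
import Mathlib.RingTheory.MvPolynomial.Homogeneous
import Mathlib.RingTheory.LocalRing.Module
import Mathlib.RingTheory.Regular.RegularSequence

/-! Quotients of polynomial rings over local rings by homogeneous forms regular on the closed fibre. -/

set_option linter.style.haveILetI false
set_option backward.isDefEq.respectTransparency false

universe u

open MvPolynomial TensorProduct DirectSum

namespace Groth.Agent.PThick

variable {A : Type u} [CommRing A] {N : ℕ}

local notation "P" => MvPolynomial (Fin (N + 1)) A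
local notation "𝒜" => MvPolynomial.homogeneousSubmodule (Fin (N + 1)) A
local notation "π" => MvPolynomial.map (σ := Fin (N + 1)) (IsLocalRing.residue A)

attribute [local instance] MvPolynomial.gradedAlgebra

theorem finite_piece (e : ℕ) : Module.Finite A (𝒜 e) := by
  have hle : 𝒜 e ≤ MvPolynomial.restrictTotalDegree (Fin (N + 1)) A e := fun p hp => by
    rw [MvPolynomial.mem_restrictTotalDegree]
    exact ((MvPolynomial.mem_homogeneousSubmodule e p).1 hp).totalDegree_le
  let r : MvPolynomial.restrictTotalDegree (Fin (N + 1)) A e →ₗ[A] 𝒜 e :=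
    LinearMap.codRestrict _ ((MvPolynomial.homogeneousComponent e).comp (Submodule.subtype _))
      fun p => MvPolynomial.homogeneousComponent_mem e _
  refine Module.Finite.of_surjective r fun p => ⟨⟨p, hle p.2⟩, Subtype.ext ?_⟩
  show MvPolynomial.homogeneousComponent e (p : P) = p
  rw [MvPolynomial.homogeneousComponent_of_mem p.2, if_pos rfl]

variable [IsLocalRing A]

theorem mem_map_residue_iff (J : Ideal P) {a : P} (h : π a ∈ J.map π) :
    ∃ j ∈ J, ∃ w ∈ IsLocalRing.maximalIdeal A • (⊤ : Submodule A P), a = j + w := by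
  have hsurj : Function.Surjective π := MvPolynomial.map_surjective _ IsLocalRing.residue_surjective
  obtain ⟨j, hj, hja⟩ := (Ideal.mem_map_iff_of_surjective _ hsurj).1 h
  refine ⟨j, hj, a - j, ?_, (add_sub_cancel j a).symm⟩
  have hk : a - j ∈ RingHom.ker π := by rw [RingHom.mem_ker, map_sub, hja, sub_self]
  rw [MvPolynomial.ker_map, IsLocalRing.ker_residue] at hk
  rw [Ideal.smul_top_eq_map]
  exact hk

theorem map_residue_smul_top {w : P} (h : w ∈ IsLocalRing.maximalIdeal A • (⊤ : Submodule A P)) : π w = 0 := by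
  rw [Ideal.smul_top_eq_map] at h
  rw [← RingHom.mem_ker, MvPolynomial.ker_map, IsLocalRing.ker_residue]
  exact h

theorem map_mem_smul_top {M M' : Type*} [AddCommGroup M] [Module A M] [AddCommGroup M'] [Module A M'] (I : Ideal A)
    (l : M →ₗ[A] M') {x : M} (hx : x ∈ I • (⊤ : Submodule A M)) : l x ∈ I • (⊤ : Submodule A M') := by
  refine Submodule.smul_induction_on hx (fun r hr m _ => ?_) fun a b ha hb => ?_
  · rw [map_smul]; exact Submodule.smul_mem_smul hr trivial
  · rw [map_add]; exact add_mem ha hb

theorem injective_lTensor_residue {M M' : Type u} [AddCommGroup M] [Module A M] [AddCommGroup M'] [Module A M']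
    (l : M →ₗ[A] M') (h : ∀ x, l x ∈ IsLocalRing.maximalIdeal A • (⊤ : Submodule A M') →
      x ∈ IsLocalRing.maximalIdeal A • (⊤ : Submodule A M)) :
    Function.Injective (l.lTensor (IsLocalRing.ResidueField A)) := by
  have hsurj : ∀ t : IsLocalRing.ResidueField A ⊗[A] M, ∃ x, t = 1 ⊗ₜ x := fun t => by
    induction t with
    | zero => exact ⟨0, (tmul_zero _ _).symm⟩
    | tmul c x =>
      obtain ⟨a, rfl⟩ := IsLocalRing.residue_surjective c
      exact ⟨a • x, by rw [← TensorProduct.smul_tmul, Algebra.smul_def, mul_one]; rfl⟩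
    | add s t hs ht =>
      obtain ⟨x, rfl⟩ := hs
      obtain ⟨y, rfl⟩ := ht
      exact ⟨x + y, (tmul_add _ _ _).symm⟩
  have hz : ∀ {Q : Type u} [AddCommGroup Q] [Module A Q] (x : Q),
      ((1 : IsLocalRing.ResidueField A) ⊗ₜ[A] x = 0 ↔ x ∈ IsLocalRing.maximalIdeal A • (⊤ : Submodule A Q)) :=
    fun {Q} _ _ x => by
      rw [← (TensorProduct.quotTensorEquivQuotSMul Q (IsLocalRing.maximalIdeal A)).injective.eq_iff, map_zero]
      have h1 : TensorProduct.quotTensorEquivQuotSMul Q (IsLocalRing.maximalIdeal A)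
          ((Ideal.Quotient.mk (IsLocalRing.maximalIdeal A) 1) ⊗ₜ[A] x) = Submodule.Quotient.mk ((1 : A) • x) :=
        TensorProduct.quotTensorEquivQuotSMul_mk_tmul _ _ _
      rw [one_smul] at h1
      refine Iff.trans ?_ (Submodule.Quotient.mk_eq_zero _)
      rw [← h1]
      rfl
  rw [injective_iff_map_eq_zero]
  intro t ht
  obtain ⟨x, rfl⟩ := hsurj t
  rw [LinearMap.lTensor_tmul, hz] at ht
  exact (hz x).2 (h x ht)

/-- One more form, regular on the closed fibre, preserves flatness. -/
theorem flat_step [IsNoetherianRing A] (J : Ideal P) (hJ : J.IsHomogeneous 𝒜) (hfl : Module.Flat A (P ⧸ J)) {f : P} {d : ℕ}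
    (hf : f ∈ 𝒜 d) (hreg : ∀ a : P, π f * π a ∈ J.map π → π a ∈ J.map π) :
    Module.Flat A (P ⧸ (J ⊔ Ideal.span {f})) := by
  classical
  let Q := Proj16.quotGrading 𝒜 J
  letI : GradedAlgebra Q := Proj16.quotGradedAlgebra 𝒜 J hJ
  let fb : P ⧸ J := Ideal.Quotient.mk J f
  let F : (P ⧸ J) →ₗ[A] P ⧸ J := LinearMap.mulLeft A fb
  let pr : ∀ e, (P ⧸ J) →ₗ[A] Q e := fun e =>
    (DirectSum.component A ℕ (fun i => Q i) e).comp (DirectSum.decomposeLinearEquiv Q).toLinearMap
  have hpr : ∀ e (x : Q e), pr e x = x := fun e x => by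
    show DirectSum.component A ℕ _ e (DirectSum.decompose Q (x : P ⧸ J)) = x
    rw [DirectSum.decompose_coe, ← DirectSum.lof_eq_of A, DirectSum.component.lof_self]
  have hfin : ∀ e, Module.Finite A (Q e) := fun e => by
    haveI := finite_piece (A := A) (N := N) e
    exact Module.Finite.map (𝒜 e) _
  have hfree : ∀ e, Module.Free A (Q e) := fun e => by
    haveI := hfin e
    haveI : Module.Flat A (Q e) := Module.Flat.of_retract (Q e).subtype (pr e) (LinearMap.ext (hpr e))
    exact Module.free_of_flat_of_isLocalRing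
  have hμ : ∀ e, ∃ r : Q (d + e) →ₗ[A] Q e, ∀ (x : Q e) (h : fb * x ∈ Q (d + e)), r ⟨_, h⟩ = x := by
    intro e
    let μ : Q e →ₗ[A] Q (d + e) := LinearMap.codRestrict _ (F.comp (Q e).subtype)
      fun x => SetLike.mul_mem_graded (Proj16.mk_mem_quotGrading 𝒜 J hf) x.2
    haveI := hfin e
    haveI := hfin (d + e)
    haveI := hfree (d + e)
    suffices hinj : ∀ x, μ x ∈ IsLocalRing.maximalIdeal A • (⊤ : Submodule A (Q (d + e))) →
        x ∈ IsLocalRing.maximalIdeal A • (⊤ : Submodule A (Q e)) by
      obtain ⟨r, hr⟩ := (IsLocalRing.split_injective_iff_lTensor_residueField_injective μ).2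
        (injective_lTensor_residue μ hinj)
      exact ⟨r, fun x h => LinearMap.congr_fun hr x⟩
    intro x hx
    obtain ⟨a, ha, hax⟩ := x.2
    have h1 : F x ∈ IsLocalRing.maximalIdeal A • (⊤ : Submodule A (P ⧸ J)) :=
      map_mem_smul_top _ (Q (d + e)).subtype hx
    have h2 : π f * π a ∈ J.map π := by
      have h3 : ((Ideal.Quotient.mkₐ A J).toLinearMap (f * a)) ∈
          (IsLocalRing.maximalIdeal A • (⊤ : Submodule A P)).map (Ideal.Quotient.mkₐ A J).toLinearMap := by
        rw [Submodule.map_smul'', Submodule.map_top, LinearMap.range_eq_top.2 Ideal.Quotient.mk_surjective]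
        have he : (Ideal.Quotient.mkₐ A J).toLinearMap (f * a) = F x := by
          show Ideal.Quotient.mk J (f * a) = fb * x
          rw [map_mul, ← hax]
          rfl
        rw [he]; exact h1
      obtain ⟨w, hw, hwe⟩ := h3
      have h4 : f * a - w ∈ J := Ideal.Quotient.eq.1 hwe.symm
      rw [← map_mul, show f * a = (f * a - w) + w from (sub_add_cancel _ _).symm, map_add,
        map_residue_smul_top hw, add_zero]
      exact Ideal.mem_map_of_mem _ h4
    obtain ⟨j, hj, w, hw, rfl⟩ := mem_map_residue_iff J (hreg a h2)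
    let L : P →ₗ[A] Q e := (pr e).comp (Ideal.Quotient.mkₐ A J).toLinearMap
    have hL : L (j + w) = x := by
      show pr e ((Ideal.Quotient.mkₐ A J).toLinearMap (j + w)) = x
      rw [hax, hpr]
    have hLj : L j = 0 := by
      show pr e (Ideal.Quotient.mk J j) = 0
      rw [Ideal.Quotient.eq_zero_iff_mem.2 hj, map_zero]
    rw [← hL, map_add, hLj, zero_add]
    exact map_mem_smul_top _ L hw
  choose r hr using hμ
  let R : (P ⧸ J) →ₗ[A] P ⧸ J := (DirectSum.toModule A ℕ (P ⧸ J) fun g =>
    if h : d ≤ g then (Q (g - d)).subtype.comp ((r (g - d)).comp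
      (LinearEquiv.ofEq _ _ (congrArg Q (Nat.add_sub_cancel' h).symm)).toLinearMap)
    else 0).comp (DirectSum.decomposeLinearEquiv Q).toLinearMap
  have hR : ∀ x, R (F x) = x := by
    suffices R.comp F = LinearMap.id from LinearMap.congr_fun this
    refine LinearMap.ext fun x => ?_
    induction x using DirectSum.Decomposition.inductionOn Q with
    | zero => simp
    | add a b ha hb => simp only [map_add, ha, hb]
    | @homogeneous e x =>
      have hmem : fb * x ∈ Q (d + e) := SetLike.mul_mem_graded (Proj16.mk_mem_quotGrading 𝒜 J hf) x.2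
      show DirectSum.toModule A ℕ (P ⧸ J) _ (DirectSum.decompose Q (fb * x)) = x
      rw [DirectSum.decompose_of_mem Q hmem, ← DirectSum.lof_eq_of A, DirectSum.toModule_lof,
        dif_pos (Nat.le_add_right d e)]
      have key : ∀ (g : ℕ) (hg : g = e) (h : fb * x ∈ Q (d + g)), ((r g ⟨_, h⟩ : Q g) : P ⧸ J) = x := by
        intro g hg h
        subst hg
        rw [hr]
      exact key (d + e - d) (Nat.add_sub_cancel_left d e) _
  -- the quotient is a direct summand
  let Z := (P ⧸ J) ⧸ LinearMap.range F
  let sec : Z →ₗ[A] P ⧸ J := (LinearMap.range F).liftQ (LinearMap.id - F.comp R) (by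
    rintro _ ⟨y, rfl⟩
    simp [hR y])
  haveI := hfl
  haveI : Module.Flat A Z := Module.Flat.of_retract sec (LinearMap.range F).mkQ (by
    refine Submodule.linearMap_qext _ (LinearMap.ext fun y => ?_)
    show (LinearMap.range F).mkQ (y - F (R y)) = (LinearMap.range F).mkQ y
    rw [map_sub, sub_eq_self]
    exact (Submodule.Quotient.mk_eq_zero _).2 ⟨R y, rfl⟩)
  have hrange : LinearMap.range F = ((Ideal.span {f}).map (Ideal.Quotient.mk J)).restrictScalars A := by
    ext y
    rw [Submodule.restrictScalars_mem, Ideal.map_span, Set.image_singleton, Ideal.mem_span_singleton]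
    exact ⟨fun ⟨z, hz⟩ => ⟨z, hz.symm⟩, fun ⟨z, hz⟩ => ⟨z, hz.symm⟩⟩
  exact Module.Flat.of_linearEquiv ((DoubleQuot.quotQuotEquivQuotSupₐ A J (Ideal.span {f})).symm.toLinearEquiv ≪≫ₗ
    (Submodule.Quotient.restrictScalarsEquiv A _).symm ≪≫ₗ Submodule.quotEquivOfEq _ _ hrange.symm)

/-- Forms forming a regular sequence on the closed fibre cut out a flat algebra. -/
theorem flat_quotient [IsNoetherianRing A] : ∀ (l : List P), (∀ f ∈ l, ∃ d, f ∈ 𝒜 d) →
    (∀ i : ℕ, ∀ h : i < l.length, ∀ a : P, π l[i] * π a ∈ (Ideal.ofList (l.take i)).map π →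
      π a ∈ (Ideal.ofList (l.take i)).map π) →
    Module.Flat A (P ⧸ Ideal.ofList l) := by
  intro l
  induction l using List.reverseRecOn with
  | nil =>
    intro _ _
    exact Module.Flat.of_linearEquiv
      ((Ideal.quotientEquivAlgOfEq A (Ideal.ofList_nil (R := P))).trans (AlgEquiv.quotientBot A P)).toLinearEquiv
  | append_singleton l f ih =>
    intro hl hreg
    obtain ⟨d, hd⟩ := hl f (by simp)
    have hJ : (Ideal.ofList l).IsHomogeneous 𝒜 := Ideal.homogeneous_span _ _ fun g hg => hl g (by
      simp only [List.mem_append, List.mem_singleton]; exact Or.inl hg)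
    have hfl := ih (fun g hg => hl g (List.mem_append_left _ hg)) fun i h a ha => by
      have hi : i < (l ++ [f]).length := by simp; omega
      have := hreg i hi a
      rw [List.getElem_append_left h, List.take_append_of_le_length h.le] at this
      exact this ha
    haveI := flat_step (Ideal.ofList l) hJ hfl hd fun a ha => by
      have := hreg l.length (by simp) a
      simp only [List.getElem_append_right le_rfl, Nat.sub_self, List.getElem_cons_zero,
        List.take_left] at this
      exact this ha
    exact Module.Flat.of_linearEquiv (Ideal.quotientEquivAlgOfEq A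
      (show Ideal.ofList (l ++ [f]) = Ideal.ofList l ⊔ Ideal.span {f} by
        rw [Ideal.ofList_append, Ideal.ofList_singleton])).toLinearEquiv

/-- Regular sequences in the sense of ideals. -/
theorem mem_of_isWeaklyRegular {S : Type u} [CommRing S] (l : List S) (h : RingTheory.Sequence.IsWeaklyRegular S l)
    (i : ℕ) (hi : i < l.length) (x : S) (hx : l[i] * x ∈ Ideal.ofList (l.take i)) : x ∈ Ideal.ofList (l.take i) := by
  have hr := h.regular_mod_prev i hi
  have he : (Ideal.ofList (l.take i) • ⊤ : Submodule S S) = Ideal.ofList (l.take i) := by simp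
  have h1 := @hr (Submodule.Quotient.mk x) 0 (by
    show l[i] • Submodule.Quotient.mk x = l[i] • (0 : S ⧸ (Ideal.ofList (l.take i) • ⊤ : Submodule S S))
    rw [smul_zero, ← Submodule.Quotient.mk_smul, Submodule.Quotient.mk_eq_zero, he]
    exact hx)
  rw [Submodule.Quotient.mk_eq_zero, he] at h1
  exact h1

end Groth.Agent.PThick
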