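import Groth.Agent.PThick.Chart
import Groth.Agent.PThick.Dim
import Groth.Agent.Proj16.ClosedSub
import Groth.Agent.ProjX.HProj
import Groth.Agent.ProjX.Proper
import Groth.Agent.S0403

/-! Closed subschemes of projective space over a local ring lie in flat ones of the same fibre dimension. -/

set_option linter.style.haveILetI false
set_option backward.isDefEq.respectTransparency false
set_option backward.isDefEq.respectTransparency.types false

noncomputable section

universe u

open CategoryTheory CategoryTheory.Limits AlgebraicGeometry TopologicalSpace PrimeSpectrum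

namespace Groth.Agent.PThick

variable {A : Type u} [CommRing A] {N : ℕ}

local notation "P" => MvPolynomial (Fin (N + 1)) A
local notation "𝒜" => CohB1.polyGrading N A

section Range

variable {B : Type u} [CommRing B] [Algebra A B] {ℬ : ℕ → Submodule A B} [GradedAlgebra ℬ]

theorem mem_range_map_iff (φ : 𝒜 →+*ᵍ ℬ) (hsurj : Function.Surjective φ)
    (hφ : HomogeneousIdeal.irrelevant ℬ ≤ (HomogeneousIdeal.irrelevant 𝒜).map φ) (x : CohB1.ProjSpace N A) :
    x ∈ Set.range (Proj.map φ hφ) ↔ ∀ a, φ a = 0 → a ∈ (x : ProjectiveSpectrum (CohB1.polyGrading N A)).asHomogeneousIdeal.toIdeal := by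
  constructor
  · rintro ⟨y, rfl⟩ a ha
    show φ a ∈ (y : ProjectiveSpectrum ℬ).asHomogeneousIdeal.toIdeal
    rw [ha]; exact Ideal.zero_mem _
  · intro h
    let q := (x : ProjectiveSpectrum (CohB1.polyGrading N A)).asHomogeneousIdeal
    haveI : q.toIdeal.IsPrime := x.isPrime
    have hker : RingHom.ker φ ≤ q.toIdeal := fun a ha => h a ha
    have hp : (q.toIdeal.map φ).IsPrime := Ideal.map_isPrime_of_surjective hsurj hker
    have hc : (q.toIdeal.map φ).comap φ = q.toIdeal := by
      rw [Ideal.comap_map_of_surjective _ hsurj]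
      exact sup_eq_left.2 hker
    have hirr : ¬ HomogeneousIdeal.irrelevant ℬ ≤ q.map φ := fun hle => by
      refine x.not_irrelevant_le ?_
      refine (HomogeneousIdeal.toIdeal_irrelevant_le _).2 fun i hi a ha => ?_
      have : φ a ∈ q.toIdeal.map φ := by
        have := hle (HomogeneousIdeal.mem_irrelevant_of_mem _ hi (φ.map_mem ha))
        exact this
      exact hc.le this
    refine ⟨(⟨q.map φ, hp, hirr⟩ : ProjectiveSpectrum ℬ), ?_⟩
    refine ProjectiveSpectrum.ext (HomogeneousIdeal.toIdeal_injective ?_)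
    exact hc

end Range

variable [IsNoetherianRing A] [IsLocalRing A]

/-- The closed fibre inside projective space. -/
abbrev pk : CohB1.ProjSpace N (IsLocalRing.ResidueField A) ⟶ CohB1.ProjSpace N A :=
  ProjX.pmap N (IsLocalRing.residue A)

theorem range_pk : Set.range (pk (A := A) (N := N)) = CohB1.ProjSpace.toSpec N A ⁻¹' {IsLocalRing.closedPoint A} := by
  have h := ProjX.isPullback_pmap N (IsLocalRing.residue A)
  rw [show pk (A := A) (N := N) = h.isoPullback.hom ≫ pullback.fst _ _ from h.isoPullback_hom_fst.symm,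
    Scheme.Hom.comp_base, TopCat.coe_comp, Set.range_comp, (Surjective.surj (f := h.isoPullback.hom)).range_eq,
    Set.image_univ, Scheme.Pullback.range_fst]
  congr 1
  exact (range_comap_of_surjective _ _ IsLocalRing.residue_surjective).trans
    ((congrArg (fun I : Ideal A => PrimeSpectrum.zeroLocus (I : Set A)) (IsLocalRing.ker_residue (R := A))).trans
      (PrimeSpectrum.zeroLocus_eq_singleton _))

theorem isEmbedding_pk : Topology.IsEmbedding (pk (A := A) (N := N)) := by
  haveI : IsClosedImmersion (Spec.map (CommRingCat.ofHom (IsLocalRing.residue A))) :=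
    IsClosedImmersion.spec_of_surjective _ IsLocalRing.residue_surjective
  haveI : IsClosedImmersion (pk (A := A) (N := N)) :=
    MorphismProperty.of_isPullback (ProjX.isPullback_pmap N (IsLocalRing.residue A)).flip inferInstance
  exact (pk (A := A) (N := N)).isEmbedding

/-- The closed fibre of a closed subscheme of projective space, topologically. -/
def fibreHomeo {Z : Scheme.{u}} (j : Z ⟶ CohB1.ProjSpace N A) [IsClosedImmersion j] :
    ↥((j ≫ CohB1.ProjSpace.toSpec N A).fiber (IsLocalRing.closedPoint A)) ≃ₜ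
      ↥((pk (A := A) (N := N)) ⁻¹' Set.range j) :=
  let f := j ≫ CohB1.ProjSpace.toSpec N A
  (f.fiberHomeo (IsLocalRing.closedPoint A)).trans
    ((j.isEmbedding.homeomorphImage (f ⁻¹' {IsLocalRing.closedPoint A})).trans
      ((Homeomorph.setCongr (by
        rw [Set.image_preimage_eq_inter_range, range_pk]
        ext x
        constructor
        · rintro ⟨z, hz, rfl⟩
          exact ⟨⟨z, rfl⟩, hz⟩
        · rintro ⟨⟨z, rfl⟩, hz⟩
          exact ⟨z, hz, rfl⟩)).trans
        (isEmbedding_pk.homeomorphImage ((pk (A := A) (N := N)) ⁻¹' Set.range j)).symm))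

theorem zset_eq_preimage {B : Type u} [CommRing B] [Algebra A B] {ℬ : ℕ → Submodule A B} [GradedAlgebra ℬ]
    (φ : 𝒜 →+*ᵍ ℬ) (hsurj : Function.Surjective φ)
    (hφ : HomogeneousIdeal.irrelevant ℬ ≤ (HomogeneousIdeal.irrelevant 𝒜).map φ) :
    (pk (A := A) (N := N)) ⁻¹' Set.range (Proj.map φ hφ) =
      zset (N := N) (MvPolynomial.map (σ := Fin (N + 1)) (IsLocalRing.residue A) '' (RingHom.ker φ : Set P)) := by
  ext y
  rw [Set.mem_preimage, mem_range_map_iff φ hsurj hφ]
  constructor
  · rintro h _ ⟨a, ha, rfl⟩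
    exact h a ha
  · exact fun h a ha => h ⟨a, ha, rfl⟩

/-- A closed subscheme of `P^N` over a noetherian local ring lies in a flat one with the same bound on fibres. -/
theorem exists_thickening {X : Scheme.{u}} (i : X ⟶ CohB1.ProjSpace N A) [IsClosedImmersion i] {n c : ℕ}
    (hN : c + n = N)
    (hdim : topologicalKrullDim ↥((i ≫ CohB1.ProjSpace.toSpec N A).fiber (IsLocalRing.closedPoint A)) ≤
      (n : WithBot ℕ∞)) :
    ∃ (Z : Scheme.{u}) (j : Z ⟶ CohB1.ProjSpace N A) (g : X ⟶ Z),
      IsClosedImmersion j ∧ IsClosedImmersion g ∧ g ≫ j = i ∧ Flat (j ≫ CohB1.ProjSpace.toSpec N A) ∧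
      ∀ s, topologicalKrullDim ↥((j ≫ CohB1.ProjSpace.toSpec N A).fiber s) ≤ (n : WithBot ℕ∞) := by
  classical
  have hs1 : ∀ f ∈ (Finset.univ.image fun l : Fin (N + 1) => (MvPolynomial.X l : P)), f ∈ 𝒜 1 := fun f hf => by
    obtain ⟨l, -, rfl⟩ := Finset.mem_image.1 hf
    exact ProjX.X_mem N l
  obtain ⟨B, _, _, ℬ, _, φ, hsurj, hφ, e, he⟩ := Proj16.exists_proj_quotient 𝒜 i _ hs1
    (by rw [Finset.coe_image, Finset.coe_univ, Set.image_univ]; exact ProjX.irrelevant_eq_span_X N)
  let K : Ideal P := RingHom.ker φ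
  have hK : K.IsHomogeneous 𝒜 := fun m a (ha : φ a = 0) => by
    show φ _ = 0
    have := Proj16.proj_map_commutes φ m a
    rw [GradedRing.proj_apply] at this
    rw [this, ha, map_zero]
  haveI : IsClosedImmersion (Proj.map φ hφ) := Proj16.isClosedImmersion_map φ hφ hsurj
  have hrange : Set.range i = Set.range (Proj.map φ hφ) := by
    rw [← he, Scheme.Hom.comp_base, TopCat.coe_comp, Set.range_comp,
      (Surjective.surj (f := e.hom)).range_eq, Set.image_univ]
    rfl
  have hdimK : topologicalKrullDim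
      ↥(zset (N := N) (MvPolynomial.map (σ := Fin (N + 1)) (IsLocalRing.residue A) '' (K : Set P))) ≤
      (n : WithBot ℕ∞) := by
    rw [← zset_eq_preimage φ hsurj hφ, ← hrange]
    exact (fibreHomeo i).symm.isInducing.topologicalKrullDim_le.trans hdim
  obtain ⟨g, hg, hflat, hdimg⟩ := exists_forms K hK hN hdimK
  let I : Ideal P := Ideal.ofList (List.ofFn g)
  have hI : I.IsHomogeneous 𝒜 := Ideal.homogeneous_span _ _ fun x hx => by
    obtain ⟨l, rfl⟩ := List.mem_ofFn.1 hx
    exact (hg l).2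
  haveI : Module.Flat A (P ⧸ I) := hflat
  letI := Proj16.quotGradedAlgebra 𝒜 I hI
  let qI : 𝒜 →+*ᵍ Proj16.quotGrading 𝒜 I :=
    { Ideal.Quotient.mk I with map_mem := fun {_ _} ha => Proj16.mk_mem_quotGrading 𝒜 I ha }
  have hqI : HomogeneousIdeal.irrelevant (Proj16.quotGrading 𝒜 I) ≤ (HomogeneousIdeal.irrelevant 𝒜).map qI := by
    rw [HomogeneousIdeal.irrelevant_le]
    rintro m hm _ ⟨a, ha, rfl⟩
    exact Ideal.mem_map_of_mem _ (HomogeneousIdeal.mem_irrelevant_of_mem _ hm ha)
  have hIK : I ≤ K := Ideal.span_le.2 fun x hx => by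
    obtain ⟨l, rfl⟩ := List.mem_ofFn.1 hx
    exact (hg l).1
  let ψ : Proj16.quotGrading 𝒜 I →+*ᵍ ℬ :=
    { Ideal.Quotient.lift I (φ : P →+* B) (fun a ha => hIK ha) with
      map_mem := fun {_ _} hb => by
        obtain ⟨a, ha, rfl⟩ := hb
        exact φ.map_mem ha }
  have hψsurj : Function.Surjective ψ := fun b => by
    obtain ⟨a, rfl⟩ := hsurj b
    exact ⟨Ideal.Quotient.mk I a, rfl⟩
  have hψ : HomogeneousIdeal.irrelevant ℬ ≤ (HomogeneousIdeal.irrelevant (Proj16.quotGrading 𝒜 I)).map ψ := by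
    rw [HomogeneousIdeal.irrelevant_le]
    intro m hm b hb
    obtain ⟨a, ha, rfl⟩ := Proj16.exists_mem_of_surjective φ hsurj hb
    exact Ideal.mem_map_of_mem (f := ψ) (x := Ideal.Quotient.mk I a)
      (HomogeneousIdeal.mem_irrelevant_of_mem _ hm (Proj16.mk_mem_quotGrading 𝒜 I ha))
  let j : Proj (Proj16.quotGrading 𝒜 I) ⟶ CohB1.ProjSpace N A := Proj.map qI hqI
  haveI : IsClosedImmersion j := Proj16.isClosedImmersion_map qI hqI Ideal.Quotient.mk_surjective
  haveI := Proj16.isClosedImmersion_map ψ hψ hψsurj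
  have hcomp : Proj.map ψ hψ ≫ j = Proj.map φ hφ :=
    (Proj.map_comp qI (hf := hqI) ψ (hg := hψ)).symm.trans (Proj16.proj_map_congr (GradedRingHom.ext fun a => rfl) _ _)
  have hstr : j ≫ CohB1.ProjSpace.toSpec N A = Proj.toSpecZero (Proj16.quotGrading 𝒜 I) ≫
      Spec.map (CommRingCat.ofHom (algebraMap A (Proj16.quotGrading 𝒜 I 0))) :=
    ProjX.map_toSpecZero qI hqI _ _ fun r => rfl
  haveI : IsProper (CohB1.ProjSpace.toSpec N A) := PnCoh.Chow.isProper_toSpec N A
  refine ⟨_, j, e.hom ≫ Proj.map ψ hψ, inferInstance, inferInstance, by rw [Category.assoc, hcomp, he],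
    hstr ▸ flat_proj I hI, fun s => ?_⟩
  have h0 : IsLocalRing.closedPoint A ∈ {t | topologicalKrullDim ↥((j ≫ CohB1.ProjSpace.toSpec N A).fiber t) ≤
      (n : WithBot ℕ∞)} := by
    refine le_trans (fibreHomeo j).isInducing.topologicalKrullDim_le ?_
    refine le_trans (le_of_eq ?_) hdimg
    show topologicalKrullDim ↥((pk (A := A) (N := N)) ⁻¹' Set.range (Proj.map qI hqI)) = _
    rw [zset_eq_preimage qI Ideal.Quotient.mk_surjective hqI]
    have : ∀ y, y ∈ zset (N := N) (MvPolynomial.map (σ := Fin (N + 1)) (IsLocalRing.residue A) '' (RingHom.ker qI : Set P)) ↔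
        y ∈ zset (N := N) (Set.range fun l => MvPolynomial.map (σ := Fin (N + 1)) (IsLocalRing.residue A) (g l)) := by
      intro y
      constructor
      · rintro h _ ⟨l, rfl⟩
        exact h ⟨g l, Ideal.Quotient.eq_zero_iff_mem.2 (Ideal.subset_span (List.mem_ofFn.2 ⟨l, rfl⟩)), rfl⟩
      · rintro h _ ⟨a, ha, rfl⟩
        have h2 : I ≤ (y : ProjectiveSpectrum (CohB1.polyGrading N (IsLocalRing.ResidueField A))).asHomogeneousIdeal.toIdeal.comap
            (MvPolynomial.map (IsLocalRing.residue A)) := Ideal.span_le.2 fun x hx => by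
          obtain ⟨l, rfl⟩ := List.mem_ofFn.1 hx
          exact h ⟨l, rfl⟩
        exact h2 (Ideal.Quotient.eq_zero_iff_mem.1 ha)
    rw [Set.ext this]
  exact (IsLocalRing.specializes_closedPoint s).mem_open (S0403.result (j ≫ CohB1.ProjSpace.toSpec N A) _) h0

end Groth.Agent.PThick
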